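import Groth.Agent.AmpleX.RelAffine
import Groth.Agent.AmpleX.Sect
import Groth.Agent.AmpleX.QuasiAffine
import Groth.Agent.InvX.GenLocus
import Mathlib.AlgebraicGeometry.ValuativeCriterion

/-!
# Generating loci for ample modules on universally closed schemes are affine
-/

universe u

open CategoryTheory CategoryTheory.Limits AlgebraicGeometry TopologicalSpace Opposite
open Groth.Agent.H23.PicMul

set_option backward.isDefEq.respectTransparency false
set_option backward.isDefEq.respectTransparency.types false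

namespace Groth.Agent.GenLocUC

open Groth.Agent

variable {X S : Scheme.{u}} {L : X.Modules}

theorem isQuasiAffine_genLocus [X.IsSeparated] (h : CohB1.IsAmple L) (s : Coh.structureModule X ⟶ L) :
    (CohB1.genLocus L s : Scheme.{u}).IsQuasiAffine := by
  haveI := h.2.1
  let U := CohB1.genLocus L s
  haveI := InvX.isAffineHom_genLocus_ι h.1 s
  haveI : CompactSpace (U : Scheme.{u}) := QuasiCompact.compactSpace_of_compactSpace U.ι
  have hframe : InvX.IsFrame (AModX.res L (le_top : U ≤ ⊤) (InvX.one s)) :=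
    AmpleX.isFrame_res_of_le (InvX.one s) (AmpleX.genLocus_eq_locus s).le
  haveI := (InvX.isIso_restrict_iff s U).2 hframe
  have hL : CohB1.IsAmple (L.restrict U.ι) := by
    refine (AmpleX.isAmple_restrict_iff _ h.1).2 ⟨inferInstance, fun z => ?_⟩
    obtain ⟨m, hm, t, hzt, hle, ht⟩ := AmpleX.exists_genLocus_le h (x := U.ι z) (U := U) z.2
    refine ⟨m, hm, AModX.res _ (le_top) (InvX.one t), ?_⟩
    rw [AmpleX.locus_res, ← AmpleX.genLocus_eq_locus, Scheme.Opens.ι_image_top, inf_eq_left.2 hle]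
    exact ⟨hzt, ht⟩
  obtain ⟨e⟩ := PicClLib.nonempty_pullback_structureModule U.ι
  let e' : (Coh.structureModule X).restrict U.ι ≅ Coh.structureModule (U : Scheme.{u}) :=
    (Scheme.Modules.restrictFunctorIsoPullback U.ι).app _ ≪≫ e
  exact AmpleX.isQuasiAffine_of_isAmple (AmpleX.isAmple_of_iso
    ((asIso ((Scheme.Modules.restrictFunctor U.ι).map s)).symm ≪≫ e') hL)

/-- A locus function with a reciprocal: the key computation with frames. -/
theorem exists_reciprocal (h : CohB1.IsAmple L) (s : Coh.structureModule X ⟶ L) (x : X) :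
    ∃ (W : X.Opens) (g : Γ(X, W)) (a : Γ(X, CohB1.genLocus L s)), x ∈ W ∧
      X.basicOpen g ≤ CohB1.genLocus L s ∧
      AModX.resR (inf_le_right : W ⊓ CohB1.genLocus L s ≤ CohB1.genLocus L s) a *
        AModX.resR (inf_le_left : W ⊓ CohB1.genLocus L s ≤ W) g = 1 := by
  obtain ⟨n, t, hxt, -⟩ := h.2.2 x
  let U := CohB1.genLocus L s
  let σ := AmpleX.powElt (InvX.one s) (n + 1)
  have hσ : AmpleX.locus σ = U := by rw [AmpleX.locus_powElt h.1, ← AmpleX.genLocus_eq_locus]
  obtain ⟨W, hxW, hW⟩ := InvX.mem_genLocus hxt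
  obtain ⟨g, hg⟩ := hW.exists_coord le_rfl (AModX.res _ (le_top : W ≤ ⊤) σ)
  rw [AModX.res_self] at hg
  have hbo := AmpleX.locus_inf σ (le_top : W ≤ ⊤) hW hg
  rw [hσ] at hbo
  have hUf := AmpleX.isFrame_res_of_le σ hσ.ge
  obtain ⟨a, ha⟩ := hUf.exists_coord le_rfl (AModX.res _ (le_top : U ≤ ⊤) (InvX.one t))
  rw [AModX.res_self] at ha
  refine ⟨W, g, a, hxW, hbo.ge.trans inf_le_left, hW.coord_unique inf_le_left ?_⟩
  have h1 := congrArg (AModX.res _ (inf_le_left : W ⊓ U ≤ W)) hg
  have h2 := congrArg (AModX.res _ (inf_le_right : W ⊓ U ≤ U)) ha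
  rw [AModX.res_smul, AModX.res_res, AModX.res_res] at h1 h2
  simp only [AModX.res_res] at h1 h2 ⊢
  rw [one_smul, mul_smul, ← h1, ← h2]

theorem isAffineOpen_genLocus [IsAffine S] (f : X ⟶ S) [UniversallyClosed f] [X.IsSeparated]
    (h : CohB1.IsAmple L) (s : Coh.structureModule X ⟶ L) : IsAffineOpen (CohB1.genLocus L s) := by
  let U := CohB1.genLocus L s
  haveI hqa := isQuasiAffine_genLocus h s
  let j := (U : Scheme.{u}).toSpecΓ
  have hex : ValuativeCriterion.Existence j := by
    intro sq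
    have hf : ValuativeCriterion.Existence f := by
      have : UniversallyClosed f := inferInstance
      rw [UniversallyClosed.eq_valuativeCriterion] at this
      exact this.1
    let b : Spec (CommRingCat.of Γ((U : Scheme.{u}), ⊤)) ⟶ S := Spec.map (U.ι ≫ f).appTop ≫ S.isoSpec.inv
    have hb : j ≫ b = U.ι ≫ f := by
      rw [← Category.assoc, ← Scheme.toSpecΓ_naturality, Category.assoc, ← Scheme.isoSpec_hom,
        Iso.hom_inv_id, Category.comp_id]
    let sp : Spec (.of sq.K) ⟶ Spec (.of sq.R) := Spec.map (CommRingCat.ofHom (algebraMap sq.R sq.K))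
    obtain ⟨⟨l, hl₁, hl₂⟩⟩ := hf
      { R := sq.R
        K := sq.K
        i₁ := sq.i₁ ≫ U.ι
        i₂ := sq.i₂ ≫ b
        commSq := ⟨by rw [Category.assoc, ← hb, ← Category.assoc, sq.commSq.w, Category.assoc]⟩ }
    have hl₁' : sp ≫ l = sq.i₁ ≫ U.ι := hl₁
    have hspinj : Function.Injective sp.appTop.hom := by
      intro u v huv
      apply (Scheme.ΓSpecIso (CommRingCat.of sq.R)).commRingCatIsoToRingEquiv.injective
      apply IsFractionRing.injective sq.R sq.K
      have := congrArg (Scheme.ΓSpecIso (CommRingCat.of sq.K)).hom.hom huv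
      have hn := Scheme.ΓSpecIso_naturality (CommRingCat.ofHom (algebraMap sq.R sq.K))
      rw [← CommRingCat.comp_apply, ← CommRingCat.comp_apply, hn] at this
      exact this
    -- the closed point of the valuation ring lands in `U`
    let c := IsLocalRing.closedPoint sq.R
    obtain ⟨W, g, a, hxW, hgU, hag⟩ := exists_reciprocal h s (l c)
    have hlW : (⊤ : (Spec (CommRingCat.of sq.R)).Opens) ≤ l ⁻¹ᵁ W := fun z _ =>
      (((IsLocalRing.specializes_closedPoint z).map l.continuous).mem_open W.isOpen hxW)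
    let ρ := (l.appLE W ⊤ hlW).hom g
    let r := sq.i₂.appTop.hom ((Scheme.ΓSpecIso _).inv.hom (U.topIso.inv.hom a))
    have hm : (⊤ : (Spec (CommRingCat.of sq.K)).Opens) ≤ (sq.i₁ ≫ U.ι) ⁻¹ᵁ (W ⊓ U) := fun z _ =>
      ⟨by
        show (sq.i₁ ≫ U.ι) z ∈ W
        rw [← hl₁', Scheme.Hom.comp_apply]
        exact hlW trivial, (sq.i₁ z).2⟩
    have hrρ : r * ρ = 1 := by
      refine hspinj ?_
      rw [map_mul, map_one]
      have hk := congrArg ((sq.i₁ ≫ U.ι).appLE (W ⊓ U) ⊤ hm).hom hag
      rw [map_mul, map_one] at hk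
      refine Eq.trans (congrArg₂ (· * ·) ?_ ?_) hk
      · show (sp.appTop).hom (sq.i₂.appTop.hom _) = _
        rw [← CommRingCat.comp_apply, ← Scheme.Hom.comp_appTop, ← sq.commSq.w, Scheme.Hom.comp_appTop,
          CommRingCat.comp_apply]
        have h1 : j.appTop.hom ((Scheme.ΓSpecIso _).inv.hom (U.topIso.inv.hom a)) = U.topIso.inv.hom a := by
          rw [Scheme.toSpecΓ_appTop, ← CommRingCat.comp_apply, ← CommRingCat.comp_apply]
          simp
        erw [h1]
        show _ = ((sq.i₁ ≫ U.ι).appLE (W ⊓ U) ⊤ hm).hom ((X.presheaf.map (homOfLE inf_le_right).op).hom a)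
        rw [← CommRingCat.comp_apply, ← CommRingCat.comp_apply, Scheme.Hom.map_appLE]
        congr 2
        have hι : U.ι.appLE U ⊤ (fun z _ => z.2) = U.topIso.inv := by
          rw [Scheme.Opens.ι_appLE]
          rfl
        rw [← hι]
        exact Scheme.Hom.appLE_comp_appLE _ _ _ _ _ _ le_top
      · show (sp.appTop).hom ((l.appLE W ⊤ hlW).hom g) =
          ((sq.i₁ ≫ U.ι).appLE (W ⊓ U) ⊤ hm).hom ((X.presheaf.map (homOfLE inf_le_left).op).hom g)
        rw [← CommRingCat.comp_apply, ← CommRingCat.comp_apply, Scheme.Hom.map_appLE]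
        congr 2
        simp only [← hl₁']
        rw [Scheme.Hom.appTop, Scheme.Hom.app_eq_appLE, Scheme.Hom.appLE_comp_appLE]
        rfl
    have hxU : l c ∈ U := by
      refine hgU ?_
      have hu : (Spec (CommRingCat.of sq.R)).basicOpen ρ = ⊤ :=
        Scheme.basicOpen_of_isUnit _ (IsUnit.of_mul_eq_one_right r hrρ)
      have hc : c ∈ (Spec (CommRingCat.of sq.R)).basicOpen ρ := hu.symm ▸ trivial
      rw [Scheme.basicOpen_appLE] at hc
      exact hc.2
    have hrange : Set.range l ⊆ Set.range U.ι := by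
      rintro _ ⟨z, rfl⟩
      rw [Scheme.Opens.range_ι]
      exact ((IsLocalRing.specializes_closedPoint z).map l.continuous).mem_open U.isOpen hxU
    let l' := IsOpenImmersion.lift U.ι l hrange
    have hl' : l' ≫ U.ι = l := IsOpenImmersion.lift_fac _ _ _
    have hsl : sp ≫ l' = sq.i₁ := by rw [← cancel_mono U.ι, Category.assoc, hl', hl₁']
    refine ⟨⟨{ l := l', fac_left := hsl, fac_right := ?_ }⟩⟩
    apply ext_of_isAffine
    ext u
    refine hspinj ?_
    rw [← CommRingCat.comp_apply, ← CommRingCat.comp_apply, ← Scheme.Hom.comp_appTop, ← Scheme.Hom.comp_appTop,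
      ← Category.assoc, hsl, sq.commSq.w]
  haveI : UniversallyClosed j := UniversallyClosed.of_valuativeCriterion j hex
  haveI : IsClosedImmersion j := IsClosedImmersion.of_isPreimmersion j j.isClosedMap.isClosed_range
  exact isAffine_of_isAffineHom j

end Groth.Agent.GenLocUC

namespace Groth.Agent.GenLocUC

open Groth.Agent

theorem isAffineHom_genLocus_comp {X S : Scheme.{u}} (f : X ⟶ S) [UniversallyClosed f] {L : X.Modules}
    (hL : RelAmple.IsRelAmple f L) (s : Coh.structureModule X ⟶ L) :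
    IsAffineHom ((CohB1.genLocus L s).ι ≫ f) := by
  refine isAffineHom_of_forall_exists_isAffineOpen _ fun y => ?_
  obtain ⟨V, hV, hyV, -⟩ := exists_isAffineOpen_mem_and_subset (x := y) (U := ⊤) trivial
  refine ⟨V, hyV, hV, ?_⟩
  haveI : IsAffine (V : Scheme.{u}) := hV
  let j := (f ⁻¹ᵁ V).ι
  have hamp : CohB1.IsAmple (L.restrict j) := hL.2 ⟨V, hV⟩
  haveI := AmpleX.isSeparated_of_isAmple hamp
  haveI : UniversallyClosed (f ∣_ V) := IsZariskiLocalAtTarget.restrict (P := @UniversallyClosed) inferInstance V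
  let s' : Coh.structureModule (f ⁻¹ᵁ V : Scheme.{u}) ⟶ L.restrict j :=
    InvX.ofSect (M := L.restrict j) (AModX.res L le_top (InvX.one s))
  have h1 := (isAffineOpen_genLocus (f ∣_ V) hamp s').image_of_isOpenImmersion j
  rw [AmpleX.genLocus_eq_locus, InvX.one_ofSect, AmpleX.image_locus] at h1
  have e : AmpleX.locus (AModX.res L (le_top : j ''ᵁ ⊤ ≤ ⊤) (InvX.one s)) = CohB1.genLocus L s ⊓ f ⁻¹ᵁ V := by
    rw [AmpleX.locus_res, Scheme.Opens.ι_image_top, ← AmpleX.genLocus_eq_locus]
  have h2 : IsAffineOpen (CohB1.genLocus L s ⊓ f ⁻¹ᵁ V) := e ▸ h1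
  show IsAffineOpen ((CohB1.genLocus L s).ι ⁻¹ᵁ (f ⁻¹ᵁ V))
  apply ((CohB1.genLocus L s).ι.isAffineOpen_iff_of_isOpenImmersion).1
  rw [Scheme.Hom.image_preimage_eq_opensRange_inf, Scheme.Opens.opensRange_ι]
  exact h2

end Groth.Agent.GenLocUC
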